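import Groth.Prelude.Def_EtRam
import Groth.Agent.L05.TotRam.Main
import Mathlib.RingTheory.DedekindDomain.IntegralClosure
import Mathlib.RingTheory.DedekindDomain.Dvr
import Mathlib.RingTheory.Localization.AsSubring
import Mathlib.RingTheory.Ideal.GoingUp
import Mathlib.NumberTheory.RamificationInertia.Ramification
import Mathlib.FieldTheory.Separable

/-! # Unramified and tamely ramified extensions in towers -/

set_option autoImplicit false
set_option linter.style.haveILetI false

universe u

open IsLocalRing

namespace Groth.L05.TameTower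

open EtRam

section DVR

variable (A K L : Type u) [CommRing A] [IsDomain A] [IsDiscreteValuationRing A] [Field K] [Algebra A K]
  [IsFractionRing A K] [Field L] [Algebra K L] [FiniteDimensional K L] [Algebra.IsSeparable K L]

include K in
theorem isDiscreteValuationRing_of_dominates (V : ValuationSubring L)
    (hV : Dominates A ((algebraMap K L).comp (algebraMap A K)) V) : IsDiscreteValuationRing V := by
  set g := (algebraMap K L).comp (algebraMap A K) with hg
  letI : Algebra A L := g.toAlgebra
  haveI : IsScalarTower A K L := IsScalarTower.of_algebraMap_eq fun _ => rfl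
  let C := integralClosure A L
  haveI : IsDedekindDomain C := integralClosure.isDedekindDomain A K L
  haveI : IsFractionRing C L := integralClosure.isFractionRing_of_finite_extension K L
  letI : Algebra A V := (g.codRestrict V.toSubring hV.1).toAlgebra
  haveI : IsScalarTower A V L := IsScalarTower.of_algebraMap_eq fun _ => rfl
  have hCV : ∀ x : L, x ∈ C → x ∈ V := by
    intro x hx
    obtain ⟨y, hy⟩ := IsIntegrallyClosedIn.isIntegral_iff.mp ((hx : IsIntegral A x).tower_top (A := V))
    exact hy ▸ y.2
  let P : Ideal C :=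
    { carrier := {x | V.valuation (x : L) < 1}
      add_mem' := fun {a b} ha hb => lt_of_le_of_lt (V.valuation.map_add _ _) (max_lt ha hb)
      zero_mem' := by show V.valuation ((0 : C) : L) < 1; rw [ZeroMemClass.coe_zero, map_zero]; exact zero_lt_one
      smul_mem' := fun c x hx => by
        show V.valuation ((c * x : C) : L) < 1
        rw [MulMemClass.coe_mul, map_mul]
        exact lt_of_le_of_lt (mul_le_of_le_one_left zero_le ((V.valuation_le_one_iff _).mpr (hCV _ c.2))) hx }
  haveI hP : P.IsPrime := by
    refine ⟨fun h => ?_, fun {x y} hxy => ?_⟩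
    · have h1 : V.valuation ((1 : C) : L) < 1 := (h ▸ Submodule.mem_top : (1 : C) ∈ P)
      rw [OneMemClass.coe_one, map_one] at h1
      exact lt_irrefl _ h1
    · by_contra hne
      push Not at hne
      have hx : V.valuation (x : L) = 1 := le_antisymm ((V.valuation_le_one_iff _).mpr (hCV _ x.2)) (not_lt.mp hne.1)
      have hy : V.valuation (y : L) = 1 := le_antisymm ((V.valuation_le_one_iff _).mpr (hCV _ y.2)) (not_lt.mp hne.2)
      have h1 : V.valuation ((x * y : C) : L) < 1 := hxy
      rw [MulMemClass.coe_mul, map_mul, hx, hy, mul_one] at h1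
      exact lt_irrefl _ h1
  have hP0 : P ≠ ⊥ := by
    obtain ⟨π, hπ⟩ := IsDiscreteValuationRing.exists_irreducible A
    intro h
    have h1 : algebraMap A C π ∈ P := hV.2 π ((mem_maximalIdeal _).mpr hπ.not_isUnit)
    rw [h, Ideal.mem_bot] at h1
    refine hπ.ne_zero ((algebraMap K L).injective.comp (IsFractionRing.injective A K) ?_)
    show g π = g 0
    rw [map_zero]
    exact congrArg Subtype.val h1
  let R' := Localization.subalgebra.ofField L P.primeCompl P.primeCompl_le_nonZeroDivisors
  haveI : IsLocalization.AtPrime R' P := Localization.subalgebra.isLocalization_ofField L P.primeCompl _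
  haveI : IsDiscreteValuationRing R' :=
    IsLocalization.AtPrime.isDiscreteValuationRing_of_dedekind_domain C hP0 R'
  haveI : IsFractionRing R' L := Localization.subalgebra.isFractionRing_ofField L P.primeCompl _
  have hRV : ∀ x : L, x ∈ R' ↔ x ∈ V := by
    have hle : ∀ x : L, x ∈ R' → x ∈ V := by
      rintro x ⟨a, s, hs, rfl⟩
      refine mul_mem (hCV _ a.2) ?_
      have h1 : V.valuation (s : L) = 1 :=
        le_antisymm ((V.valuation_le_one_iff _).mpr (hCV _ s.2)) (not_lt.mp hs)
      show (s : L)⁻¹ ∈ V
      rw [← V.valuation_le_one_iff, map_inv₀, h1, inv_one]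
    refine fun x => ⟨hle x, fun hx => ?_⟩
    obtain ⟨z, hz⟩ | ⟨z, hz⟩ := ValuationRing.isInteger_or_isInteger R' x
    · exact hz ▸ z.2
    by_cases hx0 : x = 0
    · exact hx0 ▸ zero_mem _
    have hzV : (z : L) = x⁻¹ := hz
    obtain ⟨a, s, hs, h1⟩ := z.2
    by_cases ha : a ∈ P
    · exfalso
      have h2 : V.valuation (x⁻¹) < 1 := by
        rw [← hzV, h1, map_mul, map_inv₀]
        have h3 : V.valuation (algebraMap C L s) = 1 :=
          le_antisymm ((V.valuation_le_one_iff _).mpr (hCV _ s.2)) (not_lt.mp hs)
        rw [h3, inv_one, mul_one]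
        exact ha
      rw [map_inv₀, inv_lt_one₀ (zero_lt_iff.mpr (V.valuation.ne_zero_iff.mpr hx0))] at h2
      exact absurd ((V.valuation_le_one_iff x).mpr hx) (not_le.mpr h2)
    · refine ⟨s, a, ha, ?_⟩
      rw [← inv_inv x, ← hzV, h1, mul_inv, inv_inv, mul_comm]
  exact IsDiscreteValuationRing.RingEquivClass.isDiscreteValuationRing
    ({ toFun := fun x => ⟨x, (hRV _).mp x.2⟩
       invFun := fun x => ⟨x, (hRV _).mpr x.2⟩
       map_mul' := fun _ _ => rfl
       map_add' := fun _ _ => rfl } : R' ≃+* V)

end DVR

/-- the ramification index between discrete valuation rings -/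
theorem map_eq_pow_idx (R S : Type u) [CommRing R] [IsDomain R] [IsDiscreteValuationRing R] [CommRing S]
    [IsDomain S] [IsDiscreteValuationRing S] [Algebra R S] (hinj : Function.Injective (algebraMap R S)) :
    (maximalIdeal R).map (algebraMap R S) =
      maximalIdeal S ^ Ideal.ramificationIdx' (maximalIdeal R) (maximalIdeal S) := by
  obtain ⟨π, hπ⟩ := IsDiscreteValuationRing.exists_irreducible R
  obtain ⟨w, hw⟩ := IsDiscreteValuationRing.exists_irreducible S
  obtain ⟨e, u, hu⟩ := IsDiscreteValuationRing.eq_unit_mul_pow_irreducible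
    (fun h => hπ.ne_zero (hinj (h.trans (map_zero _).symm))) hw
  have h1 : (maximalIdeal R).map (algebraMap R S) = maximalIdeal S ^ e := by
    rw [hπ.maximalIdeal_eq, hw.maximalIdeal_eq, Ideal.map_span, Set.image_singleton, Ideal.span_singleton_pow,
      hu, Ideal.span_singleton_mul_left_unit u.isUnit]
  have h2 : Ideal.ramificationIdx' (maximalIdeal R) (maximalIdeal S) = e :=
    Ideal.ramificationIdx'_spec h1.le (h1 ▸ (Ideal.pow_succ_lt_pow (IsDiscreteValuationRing.not_a_field S) e).not_ge)
  rw [h2, h1]

theorem idx_tower (R S T : Type u) [CommRing R] [IsDomain R] [IsDiscreteValuationRing R] [CommRing S]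
    [IsDomain S] [IsDiscreteValuationRing S] [CommRing T] [IsDomain T] [IsDiscreteValuationRing T]
    [Algebra R S] [Algebra S T] [Algebra R T] [IsScalarTower R S T]
    (hRS : Function.Injective (algebraMap R S)) (hST : Function.Injective (algebraMap S T)) :
    Ideal.ramificationIdx' (maximalIdeal R) (maximalIdeal T) =
      Ideal.ramificationIdx' (maximalIdeal R) (maximalIdeal S) *
        Ideal.ramificationIdx' (maximalIdeal S) (maximalIdeal T) := by
  refine Ideal.ramificationIdx'_spec (le_of_eq ?_) ?_
  · rw [IsScalarTower.algebraMap_eq R S T, ← Ideal.map_map, map_eq_pow_idx R S hRS, Ideal.map_pow,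
      map_eq_pow_idx S T hST, ← pow_mul, mul_comm]
  · rw [IsScalarTower.algebraMap_eq R S T, ← Ideal.map_map, map_eq_pow_idx R S hRS, Ideal.map_pow,
      map_eq_pow_idx S T hST, ← pow_mul, mul_comm]
    exact (Ideal.pow_succ_lt_pow (IsDiscreteValuationRing.not_a_field T) _).not_ge

/-- A valuation subring dominated by the comap of another one equals it. -/
theorem comap_eq {L M : Type u} [Field L] [Field M] (f : L →+* M) (V : ValuationSubring L)
    (W : ValuationSubring M) (h : Dominates V (f.comp V.subtype) W) : W.comap f = V := by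
  refine le_antisymm (fun x hx => ?_) fun x hx => h.1 ⟨x, hx⟩
  by_contra hxV
  have hx0 : x ≠ 0 := fun h0 => hxV (h0 ▸ V.zero_mem)
  have hinv : x⁻¹ ∈ V := (V.mem_or_inv_mem x).resolve_left hxV
  have hm : (⟨x⁻¹, hinv⟩ : V) ∈ maximalIdeal V := (mem_maximalIdeal _).mpr fun hu => by
    obtain ⟨u, hu⟩ := hu
    refine hxV ?_
    have h1 : ((u : V) : L) * ((↑u⁻¹ : V) : L) = 1 := congrArg Subtype.val u.mul_inv
    rw [hu] at h1
    rw [show x = ((↑u⁻¹ : V) : L) from (inv_mul_eq_one₀ hx0).mp h1]
    exact (↑u⁻¹ : V).2
  have h1 : W.valuation (f x⁻¹) < 1 := h.2 _ hm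
  rw [map_inv₀, map_inv₀, inv_lt_one₀ (zero_lt_iff.mpr (W.valuation.ne_zero_iff.mpr
    ((map_ne_zero f).mpr hx0)))] at h1
  exact absurd ((W.valuation_le_one_iff _).mpr hx) (not_le.mpr h1)

/-- A valuation subring dominating along a composite gives one dominating downstairs. -/
theorem dominates_comap {A : Type u} [CommRing A] [IsLocalRing A] {L M : Type u} [Field L] [Field M]
    (g : A →+* L) (f : L →+* M) (W : ValuationSubring M) (h : Dominates A (f.comp g) W) :
    Dominates A g (W.comap f) ∧ Dominates (W.comap f) (f.comp (W.comap f).subtype) W := by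
  refine ⟨⟨h.1, fun a ha => ?_⟩, ⟨fun x => x.2, fun x hx => ?_⟩⟩
  · refine (ValuationSubring.valuation_lt_one_iff _ ⟨g a, h.1 a⟩).mp ((mem_maximalIdeal _).mpr fun hu => ?_)
    exact (mem_maximalIdeal _).mp
      ((ValuationSubring.valuation_lt_one_iff W ⟨f (g a), h.1 a⟩).mpr (h.2 a ha)) (hu.map (inclOfComap W f))
  · refine (ValuationSubring.valuation_lt_one_iff W (inclOfComap W f x)).mp ((mem_maximalIdeal _).mpr fun hu => ?_)
    exact (mem_maximalIdeal _).mp hx (isUnit_of_map_unit _ _ hu)

/-- The map to a dominating valuation ring is local. -/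
theorem isLocalHom_codRestrict {A : Type u} [CommRing A] [IsLocalRing A] {L : Type u} [Field L]
    (g : A →+* L) (V : ValuationSubring L) (h : Dominates A g V) : IsLocalHom (RingHom.codRestrict g V h.1) := by
  refine ⟨fun a ha => ?_⟩
  by_contra hne
  exact (mem_maximalIdeal _).mp
    ((ValuationSubring.valuation_lt_one_iff V ⟨g a, h.1 a⟩).mpr (h.2 a ((mem_maximalIdeal _).mpr hne))) ha

variable (A K : Type u) [CommRing A] [IsDomain A] [IsDiscreteValuationRing A] [Field K] [Algebra A K]
  [IsFractionRing A K] (L M : Type u) [Field L] [Field M] [Algebra K L] [Algebra K M] [Algebra L M]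
  [IsScalarTower K L M] [FiniteDimensional K M] [Algebra.IsSeparable K M]

/-- The data of a tower of dominating valuation rings. -/
theorem tower_data {V : ValuationSubring L} {W : ValuationSubring M}
    (hV : Dominates A ((algebraMap K L).comp (algebraMap A K)) V)
    (hW : Dominates A ((algebraMap K M).comp (algebraMap A K)) W)
    (hVW : Dominates V ((algebraMap L M).comp V.subtype) W) :
    IsDiscreteValuationRing V ∧ IsDiscreteValuationRing W ∧
    letI : Algebra A V := (RingHom.codRestrict ((algebraMap K L).comp (algebraMap A K)) V hV.1).toAlgebra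
    letI : Algebra V W := (RingHom.codRestrict ((algebraMap L M).comp V.subtype) W hVW.1).toAlgebra
    letI : Algebra A W := (RingHom.codRestrict ((algebraMap K M).comp (algebraMap A K)) W hW.1).toAlgebra
    IsScalarTower A V W ∧ IsLocalHom (algebraMap A V) ∧ IsLocalHom (algebraMap V W) ∧
      IsLocalHom (algebraMap A W) ∧ Function.Injective (algebraMap A V) ∧ Function.Injective (algebraMap V W) := by
  haveI : FiniteDimensional K L := FiniteDimensional.left K L M
  haveI : Algebra.IsSeparable K L := Algebra.isSeparable_tower_bot_of_isSeparable K L M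
  letI : Algebra A V := (RingHom.codRestrict ((algebraMap K L).comp (algebraMap A K)) V hV.1).toAlgebra
  letI : Algebra V W := (RingHom.codRestrict ((algebraMap L M).comp V.subtype) W hVW.1).toAlgebra
  letI : Algebra A W := (RingHom.codRestrict ((algebraMap K M).comp (algebraMap A K)) W hW.1).toAlgebra
  refine ⟨isDiscreteValuationRing_of_dominates A K L V hV, isDiscreteValuationRing_of_dominates A K M W hW,
    IsScalarTower.of_algebraMap_eq fun a => Subtype.ext (IsScalarTower.algebraMap_apply K L M _),
    isLocalHom_codRestrict _ V hV, isLocalHom_codRestrict _ W hVW, isLocalHom_codRestrict _ W hW,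
    fun a b h => IsFractionRing.injective A K ((algebraMap K L).injective (congrArg Subtype.val h)),
    fun a b h => Subtype.ext ((algebraMap L M).injective (congrArg Subtype.val h))⟩

theorem exists_over {V : ValuationSubring L} (hV : Dominates A ((algebraMap K L).comp (algebraMap A K)) V) :
    ∃ W : ValuationSubring M, Dominates V ((algebraMap L M).comp V.subtype) W ∧
      Dominates A ((algebraMap K M).comp (algebraMap A K)) W := by
  obtain ⟨W, hW⟩ := Groth.L05.TotRam.exists_dominating V ((algebraMap L M).comp V.subtype)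
    ((algebraMap L M).injective.comp Subtype.val_injective)
  refine ⟨W, hW, fun a => ?_, fun a ha => ?_⟩
  · show algebraMap K M (algebraMap A K a) ∈ W
    rw [IsScalarTower.algebraMap_apply K L M]
    exact hW.1 ⟨_, hV.1 a⟩
  · show W.valuation (algebraMap K M (algebraMap A K a)) < 1
    rw [IsScalarTower.algebraMap_apply K L M]
    exact hW.2 ⟨_, hV.1 a⟩ ((ValuationSubring.valuation_lt_one_iff V ⟨_, hV.1 a⟩).mpr (hV.2 a ha))

theorem bot_result :
    (IsTamelyRamified A ((algebraMap K M).comp (algebraMap A K)) →
      IsTamelyRamified A ((algebraMap K L).comp (algebraMap A K))) ∧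
    (IsUnramifiedExt A ((algebraMap K M).comp (algebraMap A K)) →
      IsUnramifiedExt A ((algebraMap K L).comp (algebraMap A K))) := by
  refine ⟨fun h V hV => ?_, fun h V hV => ?_⟩
  all_goals
    letI : Algebra A V := (RingHom.codRestrict ((algebraMap K L).comp (algebraMap A K)) V hV.1).toAlgebra
    intro _
    obtain ⟨W, hVW, hW⟩ := exists_over A K L M hV
    letI : Algebra V W := (RingHom.codRestrict ((algebraMap L M).comp V.subtype) W hVW.1).toAlgebra
    letI : Algebra A W := (RingHom.codRestrict ((algebraMap K M).comp (algebraMap A K)) W hW.1).toAlgebra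
    obtain ⟨hdV, hdW, htow, -, hl2, hl3, hi1, hi2⟩ := tower_data A K L M hV hW hVW
    haveI := hdV
    haveI := hdW
    haveI := htow
    haveI := hl2
    haveI := hl3
  · obtain ⟨hsep, hp⟩ := h W hW
    haveI := hsep
    refine ⟨Algebra.isSeparable_tower_bot_of_isSeparable _ (ResidueField V) (ResidueField W), fun p hpp hc hd => ?_⟩
    refine hp p hpp hc ?_
    rw [idx_tower A V W hi1 hi2]
    exact hd.trans (dvd_mul_right _ _)
  · obtain ⟨hwu, hsep⟩ := h W hW
    haveI := hsep
    refine ⟨?_, Algebra.isSeparable_tower_bot_of_isSeparable _ (ResidueField V) (ResidueField W)⟩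
    have h1 := idx_tower A V W hi1 hi2
    have h2 : Ideal.ramificationIdx' (maximalIdeal A) (maximalIdeal W) = 1 :=
      Ideal.ramificationIdx'_spec (by rw [pow_one]; exact le_of_eq hwu)
        (by rw [show (maximalIdeal A).map (algebraMap A W) = maximalIdeal W ^ 1 by rw [pow_one]; exact hwu]
            exact (Ideal.pow_succ_lt_pow (IsDiscreteValuationRing.not_a_field W) 1).not_ge)
    have h3 : Ideal.ramificationIdx' (maximalIdeal A) (maximalIdeal V) = 1 :=
      (mul_eq_one.mp (h1.symm.trans h2)).1
    show (maximalIdeal A).map (algebraMap A V) = maximalIdeal V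
    rw [map_eq_pow_idx A V hi1, h3, pow_one]

theorem top_result :
    (IsTamelyRamified A ((algebraMap K L).comp (algebraMap A K)) →
      (∀ (V : ValuationSubring L), Dominates A ((algebraMap K L).comp (algebraMap A K)) V →
        IsTamelyRamified V ((algebraMap L M).comp V.subtype)) →
      IsTamelyRamified A ((algebraMap K M).comp (algebraMap A K))) ∧
    (IsUnramifiedExt A ((algebraMap K L).comp (algebraMap A K)) →
      (∀ (V : ValuationSubring L), Dominates A ((algebraMap K L).comp (algebraMap A K)) V →
        IsUnramifiedExt V ((algebraMap L M).comp V.subtype)) →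
      IsUnramifiedExt A ((algebraMap K M).comp (algebraMap A K))) := by
  refine ⟨fun hL hM W hW => ?_, fun hL hM W hW => ?_⟩
  all_goals
    letI : Algebra A W := (RingHom.codRestrict ((algebraMap K M).comp (algebraMap A K)) W hW.1).toAlgebra
    intro _
    have hW' : Dominates A ((algebraMap L M).comp ((algebraMap K L).comp (algebraMap A K))) W := by
      rw [← RingHom.comp_assoc, ← IsScalarTower.algebraMap_eq]
      exact hW
    obtain ⟨hV, hVW⟩ := dominates_comap _ (algebraMap L M) W hW'
    let V := W.comap (algebraMap L M)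
    letI : Algebra A V := (RingHom.codRestrict ((algebraMap K L).comp (algebraMap A K)) V hV.1).toAlgebra
    letI : Algebra V W := (RingHom.codRestrict ((algebraMap L M).comp V.subtype) W hVW.1).toAlgebra
    obtain ⟨hdV, hdW, htow, hl1, hl2, -, hi1, hi2⟩ := tower_data A K L M hV hW hVW
    haveI := hdV
    haveI := hdW
    haveI := htow
    haveI := hl1
    haveI := hl2
  · obtain ⟨hs1, hp1⟩ := hL V hV
    obtain ⟨hs2, hp2⟩ := hM V hV W hVW
    haveI := hs1
    haveI := hs2
    refine ⟨Algebra.IsSeparable.trans _ (ResidueField V) _, fun p hpp hc hd => ?_⟩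
    rw [idx_tower A V W hi1 hi2] at hd
    rcases hpp.dvd_mul.mp hd with h | h
    · exact hp1 p hpp hc h
    · haveI := hc
      exact hp2 p hpp (charP_of_injective_algebraMap
        (RingHom.injective (algebraMap (ResidueField A) (ResidueField V))) p) h
  · obtain ⟨hw1, hs1⟩ := hL V hV
    obtain ⟨hw2, hs2⟩ := hM V hV W hVW
    haveI := hs1
    haveI := hs2
    refine ⟨?_, Algebra.IsSeparable.trans _ (ResidueField V) _⟩
    show (maximalIdeal A).map (algebraMap A W) = maximalIdeal W
    rw [IsScalarTower.algebraMap_eq A V W, ← Ideal.map_map, hw1, hw2]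

end Groth.L05.TameTower
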